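import Mathlib.AlgebraicGeometry.Birational.Birational
import Mathlib.AlgebraicGeometry.AffineSpace
import Mathlib.AlgebraicGeometry.Morphisms.FiniteType
import Mathlib.RingTheory.MvPolynomial.Basic
import Mathlib.Algebra.MvPolynomial.Supported
import Mathlib.Algebra.MvPolynomial.NoZeroDivisors
import Mathlib.RingTheory.Localization.Away.Basic
import Mathlib.RingTheory.FiniteType
import Groth.Agent.L03.GeneralVector

/-!
# Direct factors of rational varieties are retract rational
-/

set_option autoImplicit false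
set_option linter.style.haveILetI false

universe u

open CategoryTheory CategoryTheory.Limits AlgebraicGeometry TopologicalSpace MvPolynomial

noncomputable section

namespace Groth.L03.RatVar

variable {k : Type u} [Field k]

/-- A localised polynomial ring of finite type has finitely many variables. -/
theorem finite_of_finiteType_away {σ : Type u} (f : MvPolynomial σ k) (hf : f ≠ 0) {B : Type u} [CommRing B]
    [Algebra k B] [Algebra (MvPolynomial σ k) B] [IsScalarTower k (MvPolynomial σ k) B] [IsLocalization.Away f B]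
    [Algebra.FiniteType k B] : Finite σ := by
  classical
  obtain ⟨G, hG⟩ := Algebra.FiniteType.out (R := k) (A := B)
  choose n p hp using fun g : B => IsLocalization.Away.surj f g
  let S : Finset σ := f.vars ∪ G.biUnion fun g => (p g).vars
  by_contra hσ
  rw [not_finite_iff_infinite] at hσ
  obtain ⟨i, hi⟩ := Infinite.exists_notMem_finset S
  let P : MvPolynomial σ k → Prop := fun q => q ∈ MvPolynomial.supported k (S : Set σ)
  have hfS : f ∈ MvPolynomial.supported k (S : Set σ) :=
    MvPolynomial.mem_supported.2 fun x hx => Finset.mem_union_left _ hx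
  have key : ∀ z : B, ∃ (m : ℕ) (q : MvPolynomial σ k), q ∈ MvPolynomial.supported k (S : Set σ) ∧
      z * algebraMap (MvPolynomial σ k) B f ^ m = algebraMap (MvPolynomial σ k) B q := by
    intro z
    have hz : z ∈ Algebra.adjoin k (G : Set B) := hG.ge Algebra.mem_top
    induction hz using Algebra.adjoin_induction with
    | mem g hg =>
      exact ⟨n g, p g, MvPolynomial.mem_supported.2 fun x hx =>
        Finset.mem_union_right _ (Finset.mem_biUnion.2 ⟨g, hg, hx⟩), hp g⟩
    | algebraMap c =>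
      exact ⟨0, C c, (MvPolynomial.supported k (S : Set σ)).algebraMap_mem c, by
        rw [pow_zero, mul_one, IsScalarTower.algebraMap_apply k (MvPolynomial σ k) B]; rfl⟩
    | add a b _ _ ha hb =>
      obtain ⟨m, q, hq, h⟩ := ha
      obtain ⟨m', q', hq', h'⟩ := hb
      refine ⟨m + m', q * f ^ m' + q' * f ^ m, add_mem (mul_mem hq (pow_mem hfS _)) (mul_mem hq' (pow_mem hfS _)), ?_⟩
      simp only [map_add, map_mul, map_pow, ← h, ← h']
      ring
    | mul a b _ _ ha hb =>
      obtain ⟨m, q, hq, h⟩ := ha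
      obtain ⟨m', q', hq', h'⟩ := hb
      refine ⟨m + m', q * q', mul_mem hq hq', ?_⟩
      simp only [map_mul, ← h, ← h']
      ring
  obtain ⟨m, q, hq, h⟩ := key (algebraMap (MvPolynomial σ k) B (X i))
  rw [← map_pow, ← map_mul] at h
  have hinj : Function.Injective (algebraMap (MvPolynomial σ k) B) :=
    IsLocalization.injective B (M := Submonoid.powers f)
      (powers_le_nonZeroDivisors_of_noZeroDivisors hf)
  have hd : degreeOf i q = 0 := by
    by_contra hd
    have : i ∈ q.vars := by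
      rw [degreeOf_def] at hd
      rw [vars_def, Multiset.mem_toFinset]
      exact Multiset.count_ne_zero.1 hd
    exact hi (MvPolynomial.mem_supported.1 hq this)
  rw [← hinj h, degreeOf_mul_eq (X_ne_zero i) (pow_ne_zero m hf), degreeOf_X, if_pos rfl] at hd
  omega

/-- The retraction. -/
theorem exists_retract [Infinite k] {X Y : Scheme.{u}} (f : X ⟶ Spec (CommRingCat.of k))
    (g : Y ⟶ Spec (CommRingCat.of k)) [LocallyOfFiniteType f] [LocallyOfFiniteType g] [IsIntegral (pullback f g)]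
    [Scheme.IsRationalOver (pullback.fst f g ≫ f)] :
    ∃ (U : X.Opens) (n : ℕ) (Y' : (Spec (CommRingCat.of (MvPolynomial (Fin n) k))).Opens)
        (a : (U : Scheme.{u}) ⟶ (Y' : Scheme.{u})) (b : (Y' : Scheme.{u}) ⟶ (U : Scheme.{u})),
        (U : Set X).Nonempty ∧ a ≫ b = 𝟙 (U : Scheme.{u}) ∧
        a ≫ Y'.ι ≫ Spec.map (CommRingCat.ofHom (algebraMap k (MvPolynomial (Fin n) k))) = U.ι ≫ f ∧
        b ≫ U.ι ≫ f = Y'.ι ≫ Spec.map (CommRingCat.ofHom (algebraMap k (MvPolynomial (Fin n) k))) := by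
  classical
  obtain ⟨σ, P, hP⟩ := Scheme.IsRationalOver.exists_birationalOver_affineSpace (pullback.fst f g ≫ f)
  let Φ := AffineSpace.SpecIso σ (CommRingCat.of k)
  let A := MvPolynomial σ k
  let ι₁ : (P.target : Scheme.{u}) ⟶ Spec (CommRingCat.of A) := P.target.ι ≫ Φ.hom
  have hΦ : Φ.hom ≫ Spec.map (CommRingCat.ofHom (algebraMap k A)) =
      𝔸(σ; Spec (CommRingCat.of k)) ↘ Spec (CommRingCat.of k) := by
    rw [← cancel_epi Φ.inv, Iso.inv_hom_id_assoc]
    exact (AffineSpace.SpecIso_inv_over (n := σ) (CommRingCat.of k)).symm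
  have hι₁ : ι₁ ≫ Spec.map (CommRingCat.ofHom (algebraMap k A)) =
      P.iso.inv ≫ P.source.ι ≫ pullback.fst f g ≫ f := by
    rw [Category.assoc, hΦ, ← hP, Iso.inv_hom_id_assoc]
  haveI : Nonempty (pullback f g : Scheme.{u}) := inferInstance
  obtain ⟨w, hw⟩ := P.dense_source.nonempty
  haveI : Nonempty (P.target : Scheme.{u}) := ⟨P.iso.hom ⟨w, hw⟩⟩
  -- a basic open in the target
  obtain ⟨_, ⟨_, ⟨h, rfl⟩, rfl⟩, hzh, hle⟩ := PrimeSpectrum.isBasis_basic_opens.exists_subset_of_mem_open
    (show ι₁ (Classical.arbitrary _) ∈ ι₁.opensRange from ⟨_, rfl⟩) ι₁.opensRange.2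
  change PrimeSpectrum.basicOpen h ≤ ι₁.opensRange at hle
  have hh : h ≠ 0 := by
    rintro rfl
    rw [PrimeSpectrum.basicOpen_zero] at hzh
    exact hzh
  let j : Spec (CommRingCat.of (Localization.Away h)) ⟶ Spec (CommRingCat.of A) :=
    Spec.map (CommRingCat.ofHom (algebraMap A (Localization.Away h)))
  haveI : IsOpenImmersion j := IsOpenImmersion.of_isLocalization h
  have hrange : Set.range j ⊆ Set.range ι₁ := by
    rintro _ ⟨z, rfl⟩
    refine hle ?_
    have := PrimeSpectrum.localization_away_comap_range (Localization.Away h) h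
    exact this.le ⟨z, rfl⟩
  let l := IsOpenImmersion.lift ι₁ j hrange
  haveI : IsOpenImmersion (l ≫ ι₁) := by rw [IsOpenImmersion.lift_fac]; infer_instance
  haveI : IsOpenImmersion l := IsOpenImmersion.of_comp l ι₁
  have hft : LocallyOfFiniteType (Spec.map (CommRingCat.ofHom (algebraMap k (Localization.Away h)))) := by
    have : Spec.map (CommRingCat.ofHom (algebraMap k (Localization.Away h))) =
        l ≫ P.iso.inv ≫ P.source.ι ≫ pullback.fst f g ≫ f := by
      rw [← hι₁, IsOpenImmersion.lift_fac_assoc, ← Spec.map_comp, ← CommRingCat.ofHom_comp,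
        ← IsScalarTower.algebraMap_eq]
    rw [this]
    infer_instance
  haveI : Algebra.FiniteType k (Localization.Away h) :=
    RingHom.finiteType_algebraMap.1 ((HasRingHomProperty.Spec_iff (P := @LocallyOfFiniteType)).1 hft)
  haveI : Finite σ := finite_of_finiteType_away h hh (B := Localization.Away h)
  obtain ⟨n, ⟨e⟩⟩ := Finite.exists_equiv_fin σ
  let eA : A ≃ₐ[k] MvPolynomial (Fin n) k := MvPolynomial.renameEquiv k e
  -- a rational point
  have hh' : eA h ≠ 0 := fun hz => hh (eA.injective (by rw [hz, map_zero]))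
  obtain ⟨c, hc⟩ := Groth.L03.GeneralVector.exists_eval_ne_zero (k := k) {()} (fun _ => eA h) fun _ _ => hh'
  let φ : A →ₐ[k] k := (MvPolynomial.aeval c).comp eA.toAlgHom
  have hφ : φ h ≠ 0 := by simpa [φ, MvPolynomial.aeval_eq_eval] using hc () (by simp)
  let φ' : Localization.Away h →+* k := IsLocalization.Away.lift h (g := φ.toRingHom) (isUnit_iff_ne_zero.2 hφ)
  let p : Spec (CommRingCat.of k) ⟶ pullback f g :=
    Spec.map (CommRingCat.ofHom φ') ≫ l ≫ P.iso.inv ≫ P.source.ι
  have hp : p ≫ pullback.fst f g ≫ f = 𝟙 _ := by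
    simp only [p, Category.assoc]
    rw [← hι₁, IsOpenImmersion.lift_fac_assoc, ← Spec.map_comp, ← Spec.map_comp, ← Spec.map_id]
    congr 1
    refine CommRingCat.hom_ext (RingHom.ext fun r => ?_)
    show φ' (algebraMap A (Localization.Away h) (algebraMap k A r)) = r
    rw [IsLocalization.Away.lift_eq]
    exact φ.commutes r
  let y : Spec (CommRingCat.of k) ⟶ Y := p ≫ pullback.snd f g
  have hy : y ≫ g = 𝟙 _ := by rw [Category.assoc, ← pullback.condition, hp]
  let s : X ⟶ pullback f g := pullback.lift (𝟙 X) (f ≫ y) (by rw [Category.id_comp, Category.assoc, hy, Category.comp_id])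
  have hps : (p ≫ pullback.fst f g) ≫ s = p := by
    apply pullback.hom_ext
    · rw [Category.assoc, pullback.lift_fst, Category.comp_id]
    · simp only [s, Category.assoc, pullback.lift_snd]
      rw [reassoc_of% hp]
  let U : X.Opens := s ⁻¹ᵁ P.source
  have hU : (U : Set X).Nonempty := ⟨(p ≫ pullback.fst f g) (IsLocalRing.closedPoint k), by
    show ((p ≫ pullback.fst f g) ≫ s) (IsLocalRing.closedPoint k) ∈ P.source
    rw [hps]
    exact Subtype.coe_prop ((Spec.map (CommRingCat.ofHom φ') ≫ l ≫ P.iso.inv) (IsLocalRing.closedPoint k))⟩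
  -- the maps
  let E : Spec (CommRingCat.of A) ⟶ Spec (CommRingCat.of (MvPolynomial (Fin n) k)) :=
    Spec.map (CommRingCat.ofHom eA.symm.toRingHom)
  haveI : IsIso E := by
    have : IsIso (CommRingCat.ofHom eA.symm.toRingHom) :=
      (eA.symm.toRingEquiv.toCommRingCatIso.isIso_hom)
    infer_instance
  have hE : E ≫ Spec.map (CommRingCat.ofHom (algebraMap k (MvPolynomial (Fin n) k))) =
      Spec.map (CommRingCat.ofHom (algebraMap k A)) := by
    rw [← Spec.map_comp, ← CommRingCat.ofHom_comp]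
    congr 2
    exact RingHom.ext fun r => eA.symm.commutes r
  let ι₂ := ι₁ ≫ E
  let b₀ : (P.target : Scheme.{u}) ⟶ X := P.iso.inv ≫ P.source.ι ≫ pullback.fst f g
  let V := b₀ ⁻¹ᵁ U
  obtain ⟨t₀, ht₀⟩ : ∃ t₀ : (U : Scheme.{u}) ⟶ (P.source : Scheme.{u}), t₀ ≫ P.source.ι = U.ι ≫ s := by
    refine ⟨IsOpenImmersion.lift P.source.ι (U.ι ≫ s) ?_, IsOpenImmersion.lift_fac _ _ _⟩
    rintro _ ⟨z, rfl⟩
    rw [Scheme.Opens.range_ι]
    exact z.2
  let t : (U : Scheme.{u}) ⟶ (P.target : Scheme.{u}) := t₀ ≫ P.iso.hom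
  have htb : t ≫ b₀ = U.ι := by
    show (t₀ ≫ P.iso.hom) ≫ P.iso.inv ≫ P.source.ι ≫ pullback.fst f g = U.ι
    rw [Category.assoc, Iso.hom_inv_id_assoc, reassoc_of% ht₀, pullback.lift_fst, Category.comp_id]
  obtain ⟨t', ht'⟩ : ∃ t' : (U : Scheme.{u}) ⟶ (V : Scheme.{u}), t' ≫ V.ι = t := by
    refine ⟨IsOpenImmersion.lift V.ι t ?_, IsOpenImmersion.lift_fac _ _ _⟩
    rintro _ ⟨z, rfl⟩
    rw [Scheme.Opens.range_ι]
    show (t ≫ b₀) z ∈ U
    rw [htb]
    exact z.2
  obtain ⟨b, hb⟩ : ∃ b : ((ι₂ ''ᵁ V) : Scheme.{u}) ⟶ (U : Scheme.{u}), b ≫ U.ι = (ι₂.isoImage V).inv ≫ V.ι ≫ b₀ := by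
    refine ⟨IsOpenImmersion.lift U.ι ((ι₂.isoImage V).inv ≫ V.ι ≫ b₀) ?_, IsOpenImmersion.lift_fac _ _ _⟩
    rintro _ ⟨z, rfl⟩
    rw [Scheme.Opens.range_ι]
    exact ((ι₂.isoImage V).inv z).2
  have h₂ : ι₂ ≫ Spec.map (CommRingCat.ofHom (algebraMap k (MvPolynomial (Fin n) k))) = b₀ ≫ f := by
    rw [Category.assoc, hE, hι₁]
    simp only [b₀, Category.assoc]
  refine ⟨U, n, ι₂ ''ᵁ V, t' ≫ (ι₂.isoImage V).hom, b, hU, ?_, ?_, ?_⟩
  · rw [← cancel_mono U.ι, Category.id_comp, Category.assoc, Category.assoc, hb, Iso.hom_inv_id_assoc,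
      reassoc_of% ht']
    exact htb
  · rw [Category.assoc, Scheme.Hom.isoImage_hom_ι_assoc, h₂, reassoc_of% ht']
    exact (reassoc_of% htb) f
  · rw [reassoc_of% hb, ← Scheme.Hom.isoImage_inv_ι ι₂ V]
    simp only [Category.assoc, h₂]

end Groth.L03.RatVar
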